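import Groth.Agent.Lib.ExtColim.Basic
import Groth.Agent.Lib.SiteCoh.CechNerve
import Groth.Agent.Lib.ToposFin.Algebraic
import Groth.Agent.Lib.ToposFin.Present
import Groth.Prelude.Def_ToposFin2
import Mathlib.CategoryTheory.Sites.LeftExact
import Mathlib.CategoryTheory.Extensive

/-!
# Cohomology of coherent objects and filtered colimits

Čech exactness on a generating class of quasi-compact objects closed under fibre products passes to
filtered colimits, so colimits of injective sheaves are acyclic on coherent objects.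
-/

set_option autoImplicit false
set_option backward.isDefEq.respectTransparency false

universe u

open CategoryTheory CategoryTheory.Limits Opposite Abelian AlgebraicTopology Simplicial ToposFin

namespace Groth.Agent.CohColim

open Groth.Agent.SiteCoh Groth.Agent.Topos

variable {C : Type u} [SmallCategory C] {J : GrothendieckTopology C}

section Und

variable {Λ : Type u} [SmallCategory Λ] [IsFiltered Λ]

lemma preservesColimit_und_sheafified (E : Λ ⥤ (Cᵒᵖ ⥤ AddCommGrpCat.{u})) :
    PreservesColimit (E ⋙ presheafToSheaf J AddCommGrpCat.{u}) (und J) := by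
  let L := presheafToSheaf J AddCommGrpCat.{u}
  let W := (Functor.whiskeringRight Cᵒᵖ AddCommGrpCat.{u} (Type u)).obj (forget AddCommGrpCat.{u})
  haveI : PreservesColimitsOfShape Λ W := inferInstance
  haveI : PreservesColimit E (L ⋙ und J) :=
    preservesColimit_of_natIso E (sheafComposeNatIso J (forget AddCommGrpCat.{u})
      (sheafificationAdjunction J AddCommGrpCat.{u}) (sheafificationAdjunction J (Type u)))
  exact preservesColimit_of_preserves_colimit_cocone
    (isColimitOfPreserves L (colimit.isColimit E))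
    (IsColimit.ofIsoColimit (isColimitOfPreserves (L ⋙ und J) (colimit.isColimit E))
      (Functor.mapCoconeMapCocone _).symm)

instance preservesColimitsOfShape_und : PreservesColimitsOfShape Λ (und J : Sheaf J AddCommGrpCat.{u} ⥤ Sheaf J (Type u)) where
  preservesColimit {D} := by
    haveI := preservesColimit_und_sheafified (D ⋙ sheafToPresheaf J AddCommGrpCat.{u}) (J := J)
    exact preservesColimit_of_iso_diagram _
      (K₁ := (D ⋙ sheafToPresheaf J AddCommGrpCat.{u}) ⋙ presheafToSheaf J AddCommGrpCat.{u})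
      (Functor.associator _ _ _ ≪≫ Functor.isoWhiskerLeft D (asIso (sheafificationAdjunction J AddCommGrpCat.{u}).counit) ≪≫ D.rightUnitor)

end Und

/-- `Hom(ℤ[K], -)` commutes with filtered colimits for coherent `K`. -/
theorem hom_free (hE : HasQCGenerators J) {K : Sh J} (hK : IsCoherent K) {Λ : Type u} [SmallCategory Λ]
    [IsFiltered Λ] (D : Λ ⥤ Sheaf J AddCommGrpCat.{u}) :
    (∀ x : (frP J).obj K.obj ⟶ colimit D, ∃ (i : Λ) (y : (frP J).obj K.obj ⟶ D.obj i), y ≫ colimit.ι D i = x) ∧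
      ∀ (i : Λ) (y : (frP J).obj K.obj ⟶ D.obj i), y ≫ colimit.ι D i = 0 →
        ∃ (j : Λ) (f : i ⟶ j), y ≫ D.map f = 0 := by
  let adj := Sheaf.adjunction J AddCommGrpCat.adj
  let e := preservesColimitIso (und J) D
  have hb := hom_colimit_bijective hE hK (D ⋙ und J)
  have hι : ∀ i, (und J).map (colimit.ι D i) ≫ e.hom = colimit.ι (D ⋙ und J) i := fun i =>
    ι_preservesColimitIso_hom (und J) D i
  refine ⟨fun x => ?_, fun i y hy => ?_⟩
  · obtain ⟨i, a, ha⟩ := (post_surjective_iff (D ⋙ und J) K).1 hb.2 (adj.homEquiv K _ x ≫ e.hom)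
    refine ⟨i, (adj.homEquiv K _).symm a, (adj.homEquiv K _).injective ?_⟩
    erw [adj.homEquiv_naturality_right, Equiv.apply_symm_apply]
    rw [← cancel_mono e.hom, Category.assoc, hι, ha]
  · obtain ⟨j, f, hf⟩ := (post_injective_iff (D ⋙ und J) K).1 hb.1 i (adj.homEquiv K _ y)
      (adj.homEquiv K _ 0) (by
        rw [← hι i, ← Category.assoc, ← Category.assoc]
        refine congrArg (· ≫ e.hom) ?_
        erw [← adj.homEquiv_naturality_right, ← adj.homEquiv_naturality_right, hy, zero_comp])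
    refine ⟨j, f, (adj.homEquiv K _).injective ?_⟩
    erw [adj.homEquiv_naturality_right, hf, ← adj.homEquiv_naturality_right, zero_comp]

section Class

variable (S : Set (Sh J))

/-- Finite sums of members of `S`. -/
def IsSum (L : Sh J) : Prop :=
  ∃ (A : Type u) (_ : Finite A) (F : A → Sh J), (∀ a, F a ∈ S) ∧ Nonempty (L ≅ ∐ F)

/-- Čech exactness on `S`. -/
def CechExact (F : Sheaf J AddCommGrpCat.{u}) : Prop :=
  ∀ (K' K : Sh J) (f : K' ⟶ K), K ∈ S → IsSum S K' → Epi f → ∀ q, HomExactAt (frCx f) F q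

variable {S} (hqc : ∀ K ∈ S, IsQC K) (hgen : IsGenerating S) (hpb : ClosedUnderPullbacks S)

include hqc hgen hpb in
theorem coherent_of_isSum {L : Sh J} (h : IsSum S L) : IsCoherent L := by
  obtain ⟨A, _, F, hF, ⟨e⟩⟩ := h
  exact coherent_of_retract e.hom e.inv e.hom_inv_id
    (coherent_sigma_finite F fun a => coherent_of_mem hqc hgen hpb (hF a))

include hqc hgen in
theorem exists_refinement {K X : Sh J} (hK : K ∈ S) (π : X ⟶ K) [Epi π] :
    ∃ (K' : Sh J) (h : K' ⟶ X), IsSum S K' ∧ Epi (h ≫ π) := by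
  obtain ⟨ι, F, ρ, hF, hρ⟩ := jepi_of_generating hgen X
  have hρπ : Epi (Sigma.desc fun i => ρ i ≫ π) := by
    rw [show (Sigma.desc fun i => ρ i ≫ π) = Sigma.desc ρ ≫ π from Limits.Sigma.hom_ext _ _ fun i => by simp]
    exact epi_comp _ _
  obtain ⟨t, ht⟩ := hqc K hK ι F (fun i => ρ i ≫ π) hρπ
  refine ⟨_, Sigma.desc fun i : t => ρ i.1, ⟨t, inferInstance, fun i : t => F i.1, fun i => hF _, ⟨Iso.refl _⟩⟩, ?_⟩
  rw [show (Sigma.desc fun i : t => ρ i.1) ≫ π = Sigma.desc fun i : t => ρ i.1 ≫ π from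
    Limits.Sigma.hom_ext _ _ fun i => by simp]
  exact ht

include hpb in
theorem isSum_pullback {L L' K : Sh J} (hK : K ∈ S) (hL : IsSum S L) (hL' : IsSum S L') (g : L ⟶ K)
    (g' : L' ⟶ K) : IsSum S (pullback g g') := by
  obtain ⟨A, _, F, hF, ⟨e⟩⟩ := hL
  obtain ⟨B, _, G, hG, ⟨e'⟩⟩ := hL'
  let f := fun a => Sigma.ι F a ≫ e.inv ≫ g
  let f' := fun b => Sigma.ι G b ≫ e'.inv ≫ g'
  choose P p q hP sq using fun x : A × B => hpb (f x.1) (f' x.2) (hF x.1) (hG x.2) hK
  refine ⟨A × B, inferInstance, P, hP, ⟨?_⟩⟩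
  have hd : ∀ {A : Type u} (F : A → Sh J) {L : Sh J} (e : L ≅ ∐ F) (g : L ⟶ K),
      e.hom ≫ Sigma.desc (fun a => Sigma.ι F a ≫ e.inv ≫ g) = g := by
    intro A F L e g
    rw [show (Sigma.desc fun a => Sigma.ι F a ≫ e.inv ≫ g) = e.inv ≫ g from
      Limits.Sigma.hom_ext _ _ fun a => by simp, e.hom_inv_id_assoc]
  exact asIso (pullback.map g g' (Sigma.desc f) (Sigma.desc f') e.hom e'.hom (𝟙 K)
      (by rw [Category.comp_id]; exact (hd F e g).symm) (by rw [Category.comp_id]; exact (hd G e' g').symm)) ≪≫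
    (FinitaryPreExtensive.isPullback_sigmaDesc f f').isoPullback.symm ≪≫
    Sigma.mapIso fun x => (sq x).isoPullback.symm

theorem isSum_of_iso {L L' : Sh J} (e : L ≅ L') (h : IsSum S L) : IsSum S L' := by
  obtain ⟨A, hA, F, hF, ⟨e'⟩⟩ := h
  exact ⟨A, hA, F, hF, ⟨e.symm ≪≫ e'⟩⟩

include hpb in
theorem isSum_widePullback {K' K : Sh J} (f : K' ⟶ K) (hK : K ∈ S) (hK' : IsSum S K') :
    ∀ n : ℕ, IsSum S (widePullback.{0} K (fun _ : Fin (n + 1) => K') fun _ => f)
  | 0 => by
    refine isSum_of_iso ?_ hK'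
    exact
      { hom := WidePullback.lift f (fun _ => 𝟙 K') (fun _ => Category.id_comp f)
        inv := WidePullback.π (fun _ : Fin (0 + 1) => f) 0
        hom_inv_id := WidePullback.lift_π _ _ _ _ _
        inv_hom_id := by
          refine WidePullback.hom_ext _ _ _ (fun i => ?_) ?_
          · rw [Category.assoc, WidePullback.lift_π, Category.comp_id, Category.id_comp, show i = 0 from Fin.ext (by omega)]
          · rw [Category.assoc, WidePullback.lift_base, Category.id_comp, WidePullback.π_arrow] }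
  | n + 1 => by
    refine isSum_of_iso ?_ (isSum_pullback hpb hK (isSum_widePullback f hK hK' n) hK'
      (WidePullback.base (fun _ : Fin (n + 1) => f)) f)
    refine
      { hom := WidePullback.lift (pullback.snd _ _ ≫ f)
          (Fin.lastCases (pullback.snd _ _) fun i => pullback.fst _ _ ≫ WidePullback.π _ i) ?_
        inv := pullback.lift
          (WidePullback.lift (WidePullback.base _) (fun i => WidePullback.π _ i.castSucc)
            fun i => WidePullback.π_arrow _ _)
          (WidePullback.π _ (Fin.last _)) ?_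
        hom_inv_id := ?_
        inv_hom_id := ?_ }
    · intro i
      induction i using Fin.lastCases with
      | last => simp
      | cast i => simp [WidePullback.π_arrow, pullback.condition]
    · rw [WidePullback.lift_base, WidePullback.π_arrow]
    · refine pullback.hom_ext ?_ ?_
      · refine WidePullback.hom_ext _ _ _ (fun i => ?_) ?_
        · simp
        · simp [pullback.condition]
      · simp
    · refine WidePullback.hom_ext _ _ _ (fun i => ?_) ?_
      · induction i using Fin.lastCases with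
        | last => simp
        | cast i => simp
      · simp [WidePullback.π_arrow]

include hpb in
theorem isSum_nerve {K' K : Sh J} (f : K' ⟶ K) (hK : K ∈ S) (hK' : IsSum S K') (n : ℕ) :
    IsSum S ((Arrow.mk f).cechNerve.obj (op ⦋n⦌)) :=
  isSum_widePullback hpb f hK hK' n

theorem lift_isSum {T : ShortComplex (Sheaf J AddCommGrpCat.{u})}
    (h : ∀ K ∈ S, ∀ φ : (frP J).obj K.obj ⟶ T.X₃, ∃ ψ : (frP J).obj K.obj ⟶ T.X₂, ψ ≫ T.g = φ)
    {L : Sh J} (hL : IsSum S L) (φ : (frP J).obj L.obj ⟶ T.X₃) :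
    ∃ ψ : (frP J).obj L.obj ⟶ T.X₂, ψ ≫ T.g = φ := by
  let adj := Sheaf.adjunction J AddCommGrpCat.adj
  obtain ⟨A, _, F, hF, ⟨e⟩⟩ := hL
  choose ψ hψ using fun a => h (F a) (hF a) ((adj.homEquiv (F a) T.X₃).symm (Sigma.ι F a ≫ e.inv ≫ adj.homEquiv L T.X₃ φ))
  refine ⟨(adj.homEquiv L T.X₂).symm (e.hom ≫ Sigma.desc fun a => adj.homEquiv (F a) T.X₂ (ψ a)),
    (adj.homEquiv L T.X₃).injective ?_⟩
  erw [adj.homEquiv_naturality_right, Equiv.apply_symm_apply]
  rw [Category.assoc, ← Iso.eq_inv_comp]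
  refine Limits.Sigma.hom_ext _ _ fun a => ?_
  rw [Sigma.ι_desc_assoc]
  erw [← adj.homEquiv_naturality_right, hψ a, Equiv.apply_symm_apply]

include hqc hgen in
/-- Lifting maps out of free sheaves when Čech one-cocycles are coboundaries. -/
theorem exists_lift {T : ShortComplex (Sheaf J AddCommGrpCat.{u})} (hT : T.ShortExact)
    (h : CechExact S T.X₁) (K : Sh J) (hK : K ∈ S) (φ : (frP J).obj K.obj ⟶ T.X₃) :
    ∃ ψ : (frP J).obj K.obj ⟶ T.X₂, ψ ≫ T.g = φ := by
  let adj := Sheaf.adjunction J AddCommGrpCat.adj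
  haveI := hT.epi_g
  haveI hls : Sheaf.IsLocallySurjective T.g := (Sheaf.isLocallySurjective_iff_epi' _ T.g).2 inferInstance
  let φ' : K ⟶ (und J).obj T.X₃ := adj.homEquiv K T.X₃ φ
  haveI : Sheaf.IsLocallySurjective ((und J).map T.g) := by
    constructor
    intro U s
    exact Presheaf.imageSieve_mem J T.g.hom (U := op U) s
  haveI : Epi ((und J).map T.g) := inferInstance
  haveI : Epi (pullback.fst φ' ((und J).map T.g)) :=
    epi_of_isPullback (IsPullback.of_hasPullback _ _).flip
  obtain ⟨K', k, hK', hk⟩ := exists_refinement hqc hgen hK (pullback.fst φ' ((und J).map T.g))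
  let π := k ≫ pullback.fst φ' ((und J).map T.g)
  haveI : Epi π := hk
  haveI := quasiIso_cech π
  let t : K' ⟶ (und J).obj T.X₂ := k ≫ pullback.snd _ _
  refine exists_lift_of_resolution (AlternatingFaceMapComplex.ε.app (frNerve π)) hT (h K' K π hK hK' hk 0) φ
    ((adj.homEquiv _ _).symm (WidePullback.π (fun _ : Fin (0 + 1) => (Arrow.mk π).hom) 0 ≫ t)) ?_
  rw [show aug (AlternatingFaceMapComplex.ε.app (frNerve π)) = (frNerve π).hom.app (op ⦋0⦌) from
    AlternatingFaceMapComplex.ε_app_f_zero _]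
  apply (adj.homEquiv _ _).injective
  rw [Adjunction.homEquiv_naturality_right]
  erw [Equiv.apply_symm_apply, adj.homEquiv_naturality_left]
  show (WidePullback.π (fun _ : Fin (0 + 1) => (Arrow.mk π).hom) 0 ≫ t) ≫ (und J).map T.g =
    WidePullback.base (fun _ : Fin (0 + 1) => (Arrow.mk π).hom) ≫ φ'
  have ht : t ≫ (und J).map T.g = π ≫ φ' := by
    rw [Category.assoc, ← pullback.condition, Category.assoc]
  rw [Category.assoc, ht, ← Category.assoc]
  exact congrArg (· ≫ φ') (WidePullback.π_arrow (fun _ : Fin (0 + 1) => (Arrow.mk π).hom) 0)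

include hqc hgen hpb in
/-- Čech exactness on `S` gives acyclicity on `S`. -/
theorem subsingleton_HK :
    ∀ (p : ℕ) (F : Sheaf J AddCommGrpCat.{u}), CechExact S F →
      ∀ K ∈ S, Subsingleton (CohCx.HK K F (p + 1))
  | 0, F, h, K, hK => by
    obtain ⟨I, Q, i, p, w, hI, hS⟩ := exists_inj_seq F
    exact ext_one_eq_zero _ hS (exists_lift hqc hgen hS h K hK) (subsingleton_ext_injective _ I 0)
  | p + 1, F, h, K, hK => by
    obtain ⟨I, Q, i, π, w, hI, hS⟩ := exists_inj_seq F
    have hQ : CechExact S Q := fun K' K f hK hK' hf q => by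
      haveI := quasiIso_cech f
      exact homExactAt_of_shortExact hS q (h K' K f hK hK' hf (q + 1))
        (homExactAt_injective (AlternatingFaceMapComplex.ε.app (frNerve f)) I q)
        (fun g => lift_isSum (exists_lift hqc hgen hS h) (isSum_nerve hpb f hK hK' (q + 1)) g)
    exact ext_shift₁ _ hS (p + 1) (subsingleton_HK p Q hQ K hK) (subsingleton_ext_injective _ I (p + 1))

theorem subsingleton_HK_isSum :
    ∀ (p : ℕ) (F : Sheaf J AddCommGrpCat.{u}), (∀ K ∈ S, ∀ q, Subsingleton (CohCx.HK K F (q + 1))) →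
      ∀ L, IsSum S L → Subsingleton (CohCx.HK L F (p + 1))
  | 0, F, h, L, hL => by
    obtain ⟨I, Q, i, π, w, hI, hS⟩ := exists_inj_seq F
    exact ext_one_eq_zero _ hS (lift_isSum (fun K hK φ => exists_lift_of_ext _ hS (h K hK 0) φ) hL)
      (subsingleton_ext_injective _ I 0)
  | p + 1, F, h, L, hL => by
    obtain ⟨I, Q, i, π, w, hI, hS⟩ := exists_inj_seq F
    exact ext_shift₁ _ hS (p + 1)
      (subsingleton_HK_isSum p Q
        (fun K hK q => ext_shift₃ _ hS (q + 1) (subsingleton_ext_injective _ I q) (h K hK (q + 1))) L hL)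
      (subsingleton_ext_injective _ I (p + 1))

theorem cechExact_of_acyclic (hpb : ClosedUnderPullbacks S) {F : Sheaf J AddCommGrpCat.{u}}
    (h : ∀ K ∈ S, ∀ q, Subsingleton (CohCx.HK K F (q + 1))) : CechExact S F := fun K' K f hK hK' hf q => by
  haveI := quasiIso_cech f
  exact homExactAt_of_acyclic (AlternatingFaceMapComplex.ε.app (frNerve f)) q F
    (fun n k => subsingleton_HK_isSum k F h _ (isSum_nerve hpb f hK hK' n)) (fun k => h K hK k)

include hqc hgen hpb in
/-- Čech exactness on `S` passes to filtered colimits. -/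
theorem cechExact_colimit {Λ : Type u} [SmallCategory Λ] [IsFiltered Λ] (D : Λ ⥤ Sheaf J AddCommGrpCat.{u})
    (h : ∀ i, CechExact S (D.obj i)) : CechExact S (colimit D) := fun K' K f hK hK' hf q x hx => by
  have hE := hasQCGenerators_of_generating hqc hgen
  have hco : ∀ n, IsCoherent ((Arrow.mk f).cechNerve.obj (op ⦋n⦌)) := fun n =>
    coherent_of_isSum hqc hgen hpb (isSum_nerve hpb f hK hK' n)
  obtain ⟨i, y, hy⟩ := (hom_free hE (hco (q + 1)) D).1 x
  obtain ⟨j, g, hg⟩ := (hom_free hE (hco (q + 2)) D).2 i ((frCx f).d (q + 2) (q + 1) ≫ y)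
    (by rw [Category.assoc]; exact (congrArg _ hy).trans hx)
  obtain ⟨z, hz⟩ := h j K' K f hK hK' hf q (y ≫ D.map g) ((Category.assoc _ _ _).symm.trans hg)
  refine ⟨z ≫ colimit.ι D j, ?_⟩
  rw [← Category.assoc, hz, Category.assoc, colimit.w]
  exact hy

include hqc hgen hpb in
/-- A filtered colimit of sheaves acyclic on `S` is acyclic on `S`. -/
theorem acyclic_colimit {Λ : Type u} [SmallCategory Λ] [IsFiltered Λ] (D : Λ ⥤ Sheaf J AddCommGrpCat.{u})
    (hD : ∀ i, ∀ K ∈ S, ∀ q, Subsingleton (CohCx.HK K (D.obj i) (q + 1))) {K : Sh J} (hK : K ∈ S) (q : ℕ) :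
    Subsingleton (CohCx.HK K (colimit D) (q + 1)) :=
  subsingleton_HK hqc hgen hpb q _
    (cechExact_colimit hqc hgen hpb D fun i => cechExact_of_acyclic hpb (hD i)) K hK

end Class

/-- A fibre product of coherent objects over a coherent object is coherent. -/
theorem coherent_pullback (hE : IsAlgebraic J) {X Y Z : Sh J} (f : X ⟶ Z) (g : Y ⟶ Z)
    (hX : IsCoherent X) (hY : IsCoherent Y) (hZ : IsCoherent Z) : IsCoherent (pullback f g) := by
  exact ⟨hZ.2 X Y f g hX.1 hY.1, qs_of_qsHom (pullback.fst f g)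
    (MorphismProperty.pullback_fst (P := (qcHom (J := J)).diagonal) f g (qsHom_of_algebraic hE g hY.2)) hX.2⟩

/-- The coherent objects of an algebraic topos. -/
theorem coherent_class (hE : IsAlgebraic J) :
    (∀ K ∈ {K : Sh J | IsCoherent K}, IsQC K) ∧ IsGenerating {K : Sh J | IsCoherent K} ∧
      ClosedUnderPullbacks {K : Sh J | IsCoherent K} := by
  refine ⟨fun K hK => hK.1, ?_, fun K L M f g hK hL hM => ⟨_, _, _, coherent_pullback hE f g hK hL hM,
    IsPullback.of_hasPullback f g⟩⟩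
  obtain ⟨S, hqc, hgen, hpb, -⟩ := hE
  intro X
  obtain ⟨ι, F, π, hF, hπ⟩ := hgen X
  exact ⟨ι, F, π, fun i => coherent_of_mem hqc hgen hpb (hF i), hπ⟩

/-- The data for `H^q(K, -)`, `K` coherent, on filtered diagrams. -/
theorem free_data (hE : IsAlgebraic J) {K : Sh J} (hK : IsCoherent K) {Λ : Type u} [SmallCategory Λ]
    [IsFiltered Λ] :
    (∀ D : Λ ⥤ Sheaf J AddCommGrpCat.{u},
      ExtColim.Surj ((frP J).obj K.obj) 0 D ∧ ExtColim.Inj ((frP J).obj K.obj) 0 D) ∧
    ∀ D : Λ ⥤ Sheaf J AddCommGrpCat.{u}, (∀ i, Injective (D.obj i)) → ∀ q,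
      Subsingleton (Ext ((frP J).obj K.obj) (colimit D) (q + 1)) := by
  obtain ⟨hqc, hgen, hpb⟩ := coherent_class hE
  refine ⟨fun D => ?_, fun D hD q => ?_⟩
  · obtain ⟨hs, hi⟩ := hom_free (hasQCGenerators_of_algebraic hE) hK D
    exact ⟨ExtColim.surj_zero hs, ExtColim.inj_zero hi⟩
  · exact acyclic_colimit hqc hgen hpb D
      (fun i L _ p => haveI := hD i; subsingleton_ext_injective _ (D.obj i) p) hK q

/-- `H^q(K, -)` commutes with filtered colimits for coherent `K`. -/
theorem free_surj_inj (hE : IsAlgebraic J) {K : Sh J} (hK : IsCoherent K) {Λ : Type u} [SmallCategory Λ]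
    [IsFiltered Λ] (q : ℕ) (D : Λ ⥤ Sheaf J AddCommGrpCat.{u}) :
    ExtColim.Surj ((frP J).obj K.obj) q D ∧ ExtColim.Inj ((frP J).obj K.obj) q D :=
  ExtColim.surj_and_inj _ (free_data hE hK).1 (free_data hE hK).2 q D

end Groth.Agent.CohColim
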