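import Groth.Agent.Lib.ExtColim.Coherent
import Groth.Agent.Lib.SiteCoh.Constant
import Mathlib.CategoryTheory.Limits.Preserves.Shapes.Terminal

/-!
# Constant coefficients and cohomology with supports
-/

set_option autoImplicit false
set_option backward.isDefEq.respectTransparency false

universe u

open CategoryTheory CategoryTheory.Limits Opposite Abelian ToposFin

namespace Groth.Agent.CohColim

open Groth.Agent.SiteCoh Groth.Agent.Topos

variable {C : Type u} [SmallCategory C] {J : GrothendieckTopology C}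

/-- The free sheaf of the terminal object is the constant sheaf of the integers. -/
theorem nonempty_freeTerminalIso :
    Nonempty ((frP J).obj (⊤_ (Sh J)).obj ≅
      (constantSheaf J AddCommGrpCat.{u}).obj (AddCommGrpCat.of (ULift.{u} ℤ))) := by
  let h₁ : IsTerminal (⊤_ (Sh J)).obj := terminalIsTerminal.isTerminalObj (sheafToPresheaf J (Type u)) _
  let h₂ : ∀ c, IsTerminal ((⊤_ (Sh J)).obj.obj c) := fun c => h₁.isTerminalObj ((evaluation _ _).obj c) _
  let e : ∀ c : Cᵒᵖ, (⊤_ (Sh J)).obj.obj c ≅ PUnit.{u + 1} := fun c => (h₂ c).uniqueUpToIso Types.isTerminalPunit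
  let e' : (⊤_ (Sh J)).obj ≅ (Functor.const Cᵒᵖ).obj PUnit.{u + 1} :=
    NatIso.ofComponents e fun f => Types.isTerminalPunit.hom_ext _ _
  let z : AddCommGrpCat.free.{u}.obj PUnit.{u + 1} ≅ AddCommGrpCat.of (ULift.{u} ℤ) :=
    ((FreeAbelianGroup.uniqueEquiv PUnit.{u + 1}).trans AddEquiv.ulift.symm).toAddCommGrpIso
  exact ⟨(presheafToSheaf J AddCommGrpCat.{u}).mapIso
    (Functor.isoWhiskerRight e' _ ≪≫ Functor.constComp _ _ _ ≪≫ (Functor.const Cᵒᵖ).mapIso z)⟩

/-- Free sheaves preserve monomorphisms. -/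
theorem mono_freeAb_map {X Y : Sh J} (f : X ⟶ Y) [Mono f] : Mono ((freeAb J).map f) := by
  haveI : Mono f.hom := inferInstanceAs (Mono ((sheafToPresheaf J (Type u)).map f))
  haveI : Mono (((Functor.whiskeringRight Cᵒᵖ (Type u) AddCommGrpCat.{u}).obj AddCommGrpCat.free.{u}).map f.hom) := by
    haveI : ∀ T, Mono ((Functor.whiskerRight f.hom AddCommGrpCat.free.{u}).app T) := fun T => by
      haveI : Mono (f.hom.app T) := inferInstance
      exact inferInstanceAs (Mono (AddCommGrpCat.free.{u}.map (f.hom.app T)))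
    exact NatTrans.mono_of_mono_app _
  exact (presheafToSheaf J AddCommGrpCat.{u}).map_mono _

section Support

variable (hE : IsAlgebraic J) (hT : IsCoherent (⊤_ (Sh J))) (U : Sh J) [Mono (terminal.from U)]
  (hU : IsCoherent U) {Λ : Type u} [SmallCategory Λ] [IsFiltered Λ]

include hE hT hU in
theorem support_surj_inj (q : ℕ) (D : Λ ⥤ Sheaf J AddCommGrpCat.{u}) :
    ExtColim.Surj (quotZ U) q D ∧ ExtColim.Inj (quotZ U) q D := by
  let m : (freeAb J).obj U ⟶ (freeAb J).obj (⊤_ (Sh J)) := (freeAb J).map (terminal.from U)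
  haveI : Mono m := mono_freeAb_map _
  let π : (freeAb J).obj (⊤_ (Sh J)) ⟶ quotZ U := cokernel.π m
  have hwm : m ≫ π = 0 := cokernel.condition m
  have hS : (ShortComplex.mk m π hwm).ShortExact :=
    ShortComplex.ShortExact.mk' (ShortComplex.exact_of_g_is_cokernel _ (cokernelIsCokernel m))
      inferInstance inferInstance
  have hE' := hasQCGenerators_of_algebraic hE
  refine ExtColim.surj_and_inj _ (fun D => ⟨ExtColim.surj_zero fun x => ?_,
    ExtColim.inj_zero fun i y hy => ?_⟩) (fun D hD p => ⟨fun a b => ?_⟩) q D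
  · obtain ⟨i, y, hy⟩ := (hom_free hE' hT D).1 (π ≫ x)
    obtain ⟨j, f, hf⟩ := (hom_free hE' hU D).2 i (m ≫ y)
      ((Category.assoc _ _ _).trans ((congrArg (m ≫ ·) hy).trans (by rw [reassoc_of% hwm, zero_comp])))
    refine ⟨j, cokernel.desc m (y ≫ D.map f) ((Category.assoc _ _ _).symm.trans hf), ?_⟩
    rw [← cancel_epi π, ← Category.assoc]
    erw [cokernel.π_desc]
    rw [Category.assoc, colimit.w]
    exact hy
  · obtain ⟨j, f, hf⟩ := (hom_free hE' hT D).2 i (π ≫ y)
      ((Category.assoc _ _ _).trans (by rw [hy, comp_zero]))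
    exact ⟨j, f, (cancel_epi π).1 ((Category.assoc _ _ _).symm.trans (hf.trans comp_zero.symm))⟩
  · suffices h : ∀ x : Ext (quotZ U) (colimit D) (p + 1), x = 0 by rw [h a, h b]
    intro x
    obtain ⟨hqc, hgen, hpb⟩ := coherent_class hE
    have acy : ∀ (K : Sh J), IsCoherent K → ∀ k, Subsingleton (CohCx.HK K (colimit D) (k + 1)) := fun K hK k =>
      (free_data hE hK).2 D hD k
    haveI : Subsingleton (Ext ((freeAb J).obj (⊤_ (Sh J))) (colimit D) (p + 1)) := acy _ hT p
    obtain ⟨z, rfl⟩ := Ext.contravariant_sequence_exact₃ hS _ x (Subsingleton.elim _ _)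
      (show 1 + p = p + 1 by omega)
    cases p with
    | zero =>
      obtain ⟨φ, rfl⟩ := (Ext.mk₀_bijective _ _).2 z
      obtain ⟨i, y, hy⟩ := (hom_free hE' hU D).1 φ
      haveI := hD i
      let ψ : (freeAb J).obj (⊤_ (Sh J)) ⟶ colimit D := Injective.factorThru y m ≫ colimit.ι D i
      have hψ : φ = m ≫ ψ := by
        rw [← hy, ← Category.assoc, Injective.comp_factorThru]
      rw [hψ, ← Ext.mk₀_comp_mk₀]
      exact hS.extClass_comp_assoc _
    | succ k =>
      haveI : Subsingleton (Ext (ShortComplex.mk m π hwm).X₁ (colimit D) (k + 1)) := acy _ hU k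
      rw [Subsingleton.elim z 0, Ext.comp_zero]

end Support

end Groth.Agent.CohColim
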