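import Groth.Agent.Lib.ExtColim.Basic
import Mathlib.Algebra.Homology.DerivedCategory.Ext.MapBijective

/-!
# Transport along an equivalence of abelian categories
-/

set_option autoImplicit false

universe v w w'

open CategoryTheory CategoryTheory.Limits Opposite Abelian

namespace Groth.Agent.ExtColim

variable {A : Type w} [Category.{v} A] [Abelian A] [HasExt.{v} A] [EnoughInjectives A]
  {B : Type w'} [Category.{v} B] [Abelian B] [HasExt.{v} B] {Λ : Type v} [SmallCategory Λ]
  [HasColimitsOfShape Λ A] [HasColimitsOfShape Λ B]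

theorem surj_inj_of_equivalence (F : A ⥤ B) [F.IsEquivalence] [F.Additive] (M : A) {M' : B} (e : F.obj M ≅ M')
    (q : ℕ) (D : Λ ⥤ A) (h : Surj M' q (D ⋙ F) ∧ Inj M' q (D ⋙ F)) : Surj M q D ∧ Inj M q D := by
  haveI : PreservesFiniteLimits F := inferInstance
  haveI : PreservesFiniteColimits F := inferInstance
  haveI : F.PreservesInjectiveObjects :=
    Functor.preservesInjectiveObjects_of_adjunction_of_preservesMonomorphisms F.asEquivalence.symm.toAdjunction
  let c := preservesColimitIso F D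
  have hι : ∀ i, F.map (colimit.ι D i) ≫ c.hom = colimit.ι (D ⋙ F) i := fun i => ι_preservesColimitIso_hom F D i
  let T : ∀ Y : A, Ext M Y q → Ext M' (F.obj Y) q := fun Y x =>
    (Ext.mk₀ e.inv).comp (x.mapExactFunctor F) (zero_add q)
  have hb : ∀ Y, Function.Bijective (T Y) := fun Y => by
    have hg : Function.Bijective fun z : Ext (F.obj M) (F.obj Y) q => (Ext.mk₀ e.inv).comp z (zero_add q) := by
      refine Function.bijective_iff_has_inverse.2
        ⟨fun z : Ext M' (F.obj Y) q => (Ext.mk₀ e.hom).comp z (zero_add q), fun z => ?_, fun z => ?_⟩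
      · dsimp only
        rw [Ext.mk₀_comp_mk₀_assoc, e.hom_inv_id, Ext.mk₀_id_comp]
      · dsimp only
        rw [Ext.mk₀_comp_mk₀_assoc, e.inv_hom_id, Ext.mk₀_id_comp]
    exact hg.comp (F.mapExt_bijective_of_preservesInjectiveObjects M Y q)
  have hn : ∀ {Y Z : A} (f : Y ⟶ Z) (x : Ext M Y q),
      T Z (x.comp (Ext.mk₀ f) (add_zero q)) = (T Y x).comp (Ext.mk₀ (F.map f)) (add_zero q) := by
    intro Y Z f x
    simp only [T, Ext.mapExactFunctor_comp, Ext.mapExactFunctor_mk₀, Ext.comp_assoc_of_third_deg_zero]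
  have hT0 : ∀ Y, T Y 0 = 0 := fun Y => by
    show (Ext.mk₀ e.inv).comp (F.mapExtAddHom M Y q 0) (zero_add q) = 0
    rw [map_zero, Ext.comp_zero]
  refine ⟨fun x => ?_, fun i y hy => ?_⟩
  · obtain ⟨i, y', hy'⟩ := h.1 ((T _ x).comp (Ext.mk₀ c.hom) (add_zero q))
    obtain ⟨y, rfl⟩ := (hb (D.obj i)).2 y'
    refine ⟨i, y, (hb _).1 ?_⟩
    have e1 := congrArg (fun z => Ext.comp z (Ext.mk₀ c.inv) (add_zero q)) hy'
    simp only [comp_mk₀, ← hι, Category.assoc, c.hom_inv_id] at e1
    rw [hn]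
    simpa using e1
  · obtain ⟨j, f, hf⟩ := h.2 i (T _ y) (by
      rw [← hι, ← comp_mk₀, ← hn, hy, hT0, Ext.zero_comp])
    refine ⟨j, f, (hb _).1 ?_⟩
    rw [hn, hT0]
    exact hf

end Groth.Agent.ExtColim
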