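import Mathlib.Algebra.Homology.DerivedCategory.Ext.EnoughInjectives
import Mathlib.Algebra.Homology.DerivedCategory.Ext.ExactSequences
import Mathlib.CategoryTheory.Abelian.GrothendieckAxioms.Basic
import Mathlib.CategoryTheory.Abelian.FunctorCategory
import Mathlib.CategoryTheory.Limits.Types.Filtered
import Mathlib.Algebra.Category.Grp.FilteredColimits
import Mathlib.CategoryTheory.Preadditive.Injective.Basic

/-!
# `Ext` out of an object and filtered colimits

If `Hom(M, -)` commutes with filtered colimits and colimits of injectives have no higher `Ext` out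
of `M`, then every `Extⁿ(M, -)` commutes with filtered colimits.
-/

set_option autoImplicit false

universe v w'

open CategoryTheory CategoryTheory.Limits Opposite Abelian

namespace Groth.Agent.ExtColim

variable {A : Type w'} [Category.{v} A] [Abelian A] [HasExt.{v} A] {Λ : Type v} [SmallCategory Λ]
  [HasColimitsOfShape Λ A]

/-- Classes with values in a colimit come from a stage. -/
def Surj (M : A) (q : ℕ) (D : Λ ⥤ A) : Prop :=
  ∀ x : Ext M (colimit D) q, ∃ (i : Λ) (y : Ext M (D.obj i) q),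
    y.comp (Ext.mk₀ (colimit.ι D i)) (add_zero q) = x

/-- Classes vanishing in a colimit vanish at a stage. -/
def Inj (M : A) (q : ℕ) (D : Λ ⥤ A) : Prop :=
  ∀ (i : Λ) (y : Ext M (D.obj i) q), y.comp (Ext.mk₀ (colimit.ι D i)) (add_zero q) = 0 →
    ∃ (j : Λ) (f : i ⟶ j), y.comp (Ext.mk₀ (D.map f)) (add_zero q) = 0

lemma comp_mk₀ {X Y Y' Y'' : A} {q : ℕ} (y : Ext X Y q) (f : Y ⟶ Y') (g : Y' ⟶ Y'') :
    (y.comp (Ext.mk₀ f) (add_zero q)).comp (Ext.mk₀ g) (add_zero q) =
      y.comp (Ext.mk₀ (f ≫ g)) (add_zero q) := by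
  rw [Ext.comp_assoc_of_second_deg_zero, Ext.mk₀_comp_mk₀]

lemma surj_zero {M : A} {D : Λ ⥤ A}
    (h : ∀ x : M ⟶ colimit D, ∃ (i : Λ) (y : M ⟶ D.obj i), y ≫ colimit.ι D i = x) : Surj M 0 D := by
  intro x
  obtain ⟨i, y, hy⟩ := h (Ext.homEquiv₀ x)
  exact ⟨i, Ext.mk₀ y, by rw [Ext.mk₀_comp_mk₀, hy, Ext.mk₀_homEquiv₀_apply]⟩

lemma inj_zero {M : A} {D : Λ ⥤ A}
    (h : ∀ (i : Λ) (y : M ⟶ D.obj i), y ≫ colimit.ι D i = 0 → ∃ (j : Λ) (f : i ⟶ j), y ≫ D.map f = 0) :
    Inj M 0 D := by
  intro i y hy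
  obtain ⟨y, rfl⟩ := (Ext.mk₀_bijective M (D.obj i)).2 y
  rw [Ext.mk₀_comp_mk₀, Ext.mk₀_eq_zero_iff] at hy
  obtain ⟨j, f, hf⟩ := h i y hy
  exact ⟨j, f, by rw [Ext.mk₀_comp_mk₀, hf, Ext.mk₀_zero]⟩

lemma sub_comp {X Y Y' : A} {q : ℕ} (y y' : Ext X Y q) (f : Y ⟶ Y') :
    (y - y').comp (Ext.mk₀ f) (add_zero q) =
      y.comp (Ext.mk₀ f) (add_zero q) - y'.comp (Ext.mk₀ f) (add_zero q) :=
  map_sub ((Ext.mk₀ f).postcomp X (add_zero q)) y y'

section Diagram

variable [EnoughInjectives A] [HasProducts.{v} A]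

omit [HasExt.{v} A] [HasColimitsOfShape Λ A] in
/-- A diagram embeds in a diagram of injectives. -/
lemma exists_inj_diagram (D : Λ ⥤ A) :
    ∃ (I : Λ ⥤ A) (η : D ⟶ I), (∀ i, Injective (I.obj i)) ∧ Mono η := by
  let P : ∀ i : Λ, (Σ j, i ⟶ j) → A := fun i p => Injective.under (D.obj p.1)
  let I : Λ ⥤ A :=
    { obj := fun i => ∏ᶜ P i
      map := fun {i k} f => Pi.lift fun p => Pi.π (P i) ⟨p.1, f ≫ p.2⟩
      map_id := fun i => Pi.hom_ext _ _ fun p => by
        rw [Pi.lift_π, Category.id_comp]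
        obtain ⟨j, g⟩ := p
        dsimp only
        rw [Category.id_comp]
      map_comp := fun f g => Pi.hom_ext _ _ fun p => by
        obtain ⟨j, h⟩ := p
        simp only [Category.assoc, Pi.lift_π]
        congr 2
        exact Category.assoc _ _ _ }
  let η : D ⟶ I :=
    { app := fun i => Pi.lift fun p => D.map p.2 ≫ Injective.ι (D.obj p.1)
      naturality := fun i k f => Pi.hom_ext _ _ fun p => by
        dsimp [I]
        rw [Category.assoc, Category.assoc, Pi.lift_π, Pi.lift_π, Pi.lift_π, D.map_comp, Category.assoc] }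
  refine ⟨I, η, fun i => ?_, ?_⟩
  · show Injective (∏ᶜ P i)
    infer_instance
  · haveI : ∀ i, Mono (η.app i) := fun i => ⟨fun a b h => by
      have := congrArg (fun m => m ≫ Pi.π (P i) ⟨i, 𝟙 i⟩) h
      simp only [η, Category.assoc, Pi.lift_π, D.map_id, Category.id_comp] at this
      exact (cancel_mono (Injective.ι (D.obj i))).1 this⟩
    exact NatTrans.mono_of_mono_app _

variable [IsFiltered Λ] [HasExactColimitsOfShape Λ A]

/-- The induction on the degree. -/
theorem surj_and_inj (M : A) (h₀ : ∀ D : Λ ⥤ A, Surj M 0 D ∧ Inj M 0 D)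
    (hv : ∀ D : Λ ⥤ A, (∀ i, Injective (D.obj i)) → ∀ q, Subsingleton (Ext M (colimit D) (q + 1))) :
    ∀ (q : ℕ) (D : Λ ⥤ A), Surj M q D ∧ Inj M q D
  | 0, D => h₀ D
  | q + 1, D => by
    obtain ⟨I, η, hI, hη⟩ := exists_inj_diagram D
    let S : ShortComplex (Λ ⥤ A) := ShortComplex.mk η (cokernel.π η) (cokernel.condition η)
    have hS : S.ShortExact :=
      ShortComplex.ShortExact.mk' (ShortComplex.exact_of_g_is_cokernel _ (cokernelIsCokernel η))
        inferInstance inferInstance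
    haveI : (colim (J := Λ) (C := A)).Additive := Functor.additive_of_preserves_binary_products _
    have hc : (S.map (colim (J := Λ) (C := A))).ShortExact := hS.map_of_exact _
    have he : ∀ i, (S.map ((evaluation Λ A).obj i)).ShortExact := fun i => hS.map_of_exact _
    let φ : ∀ i, S.map ((evaluation Λ A).obj i) ⟶ S.map (colim (J := Λ) (C := A)) := fun i =>
      ShortComplex.homMk (colimit.ι S.X₁ i) (colimit.ι S.X₂ i) (colimit.ι S.X₃ i)
        (colimit.ι_map S.f i) (colimit.ι_map S.g i)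
    let ψ : ∀ {i j : Λ} (f : i ⟶ j), S.map ((evaluation Λ A).obj i) ⟶ S.map ((evaluation Λ A).obj j) :=
      fun {i j} f => ShortComplex.homMk (S.X₁.map f) (S.X₂.map f) (S.X₃.map f) (S.f.naturality f)
        (S.g.naturality f)
    have ih₂ := surj_and_inj M h₀ hv q S.X₂
    have ih₃ := surj_and_inj M h₀ hv q S.X₃
    have hq : q + 1 = q + 1 := rfl
    -- naturality of the connecting maps
    have nat : ∀ (i : Λ) (y : Ext M (S.X₃.obj i) q),
        (y.comp (he i).extClass hq).comp (Ext.mk₀ (colimit.ι S.X₁ i)) (add_zero (q + 1)) =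
          (y.comp (Ext.mk₀ (colimit.ι S.X₃ i)) (add_zero q)).comp hc.extClass hq := by
      intro i y
      rw [Ext.comp_assoc _ _ _ hq (add_zero 1) (by omega)]
      rw [Ext.comp_assoc _ _ _ (add_zero q) (zero_add 1) (by omega)]
      exact congrArg (fun z => y.comp z hq) (ShortComplex.ShortExact.extClass_naturality (he i) hc (φ i))
    have nat' : ∀ {i j : Λ} (f : i ⟶ j) (y : Ext M (S.X₃.obj i) q),
        (y.comp (he i).extClass hq).comp (Ext.mk₀ (S.X₁.map f)) (add_zero (q + 1)) =
          (y.comp (Ext.mk₀ (S.X₃.map f)) (add_zero q)).comp (he j).extClass hq := by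
      intro i j f y
      rw [Ext.comp_assoc _ _ _ hq (add_zero 1) (by omega)]
      rw [Ext.comp_assoc _ _ _ (add_zero q) (zero_add 1) (by omega)]
      exact congrArg (fun z => y.comp z hq) (ShortComplex.ShortExact.extClass_naturality (he i) (he j) (ψ f))
    constructor
    · intro x
      haveI : Subsingleton (Ext M (S.map (colim (J := Λ) (C := A))).X₂ (q + 1)) := hv I hI q
      obtain ⟨z, hz⟩ := Ext.covariant_sequence_exact₁ M hc x (Subsingleton.elim _ _) hq
      obtain ⟨i, y, hy⟩ := ih₃.1 z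
      exact ⟨i, y.comp (he i).extClass hq, (nat i y).trans ((congrArg (fun t => Ext.comp t hc.extClass hq) hy).trans hz)⟩
    · intro i x hx
      haveI : Subsingleton (Ext M (S.map ((evaluation Λ A).obj i)).X₂ (q + 1)) := by
        haveI : Injective (S.map ((evaluation Λ A).obj i)).X₂ := hI i
        exact ⟨fun a b => (Ext.eq_zero_of_injective a).trans (Ext.eq_zero_of_injective b).symm⟩
      obtain ⟨y, hy⟩ := Ext.covariant_sequence_exact₁ M (he i) x (Subsingleton.elim _ _) hq
      obtain ⟨z, hz⟩ := Ext.covariant_sequence_exact₃ M hc (y.comp (Ext.mk₀ (colimit.ι S.X₃ i)) (add_zero q)) hq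
        ((nat i y).symm.trans ((congrArg (fun t => Ext.comp t (Ext.mk₀ (colimit.ι S.X₁ i)) (add_zero (q + 1))) hy).trans hx))
      obtain ⟨j, w, hw⟩ := ih₂.1 z
      let k := IsFiltered.max i j
      let f := IsFiltered.leftToMax i j
      let g := IsFiltered.rightToMax i j
      let d : Ext M (S.X₃.obj k) q := y.comp (Ext.mk₀ (S.X₃.map f)) (add_zero q) -
        (w.comp (Ext.mk₀ (S.g.app j)) (add_zero q)).comp (Ext.mk₀ (S.X₃.map g)) (add_zero q)
      have hd : d.comp (Ext.mk₀ (colimit.ι S.X₃ k)) (add_zero q) = 0 := by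
        simp only [d, sub_comp, comp_mk₀, Category.assoc]
        erw [colimit.w, colimit.w]
        have e1 : S.g.app j ≫ colimit.ι S.X₃ j = colimit.ι S.X₂ j ≫ (colim (J := Λ) (C := A)).map S.g :=
          (colimit.ι_map S.g j).symm
        rw [e1, ← comp_mk₀ w, sub_eq_zero]
        exact (hz.symm).trans (congrArg (fun t => Ext.comp t _ (add_zero q)) hw).symm
      obtain ⟨l, h, hl⟩ := ih₃.2 k d hd
      refine ⟨l, f ≫ h, ?_⟩
      simp only [d, sub_comp, comp_mk₀, Category.assoc, sub_eq_zero] at hl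
      erw [← S.X₃.map_comp, ← S.X₃.map_comp, ← S.g.naturality (g ≫ h), ← comp_mk₀ w] at hl
      calc x.comp (Ext.mk₀ (D.map (f ≫ h))) (add_zero (q + 1))
          = (y.comp (he i).extClass hq).comp (Ext.mk₀ (S.X₁.map (f ≫ h))) (add_zero (q + 1)) := by rw [hy]; rfl
        _ = (y.comp (Ext.mk₀ (S.X₃.map (f ≫ h))) (add_zero q)).comp (he l).extClass hq := nat' _ y
        _ = 0 := by
          rw [hl, Ext.comp_assoc _ _ _ (add_zero q) (zero_add 1) (by omega)]
          have : (Ext.mk₀ (S.g.app l)).comp (he l).extClass (zero_add 1) = 0 := (he l).comp_extClass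
          rw [this, Ext.comp_zero]

end Diagram

variable [IsFiltered Λ]

/-- A cocone of abelian groups over a filtered category is colimiting if it is jointly surjective
and classes killed by the cocone die at a stage. -/
theorem nonempty_isColimit_addCommGrp {D : Λ ⥤ AddCommGrpCat.{v}} (c : Cocone D)
    (hs : ∀ x : c.pt, ∃ i y, c.ι.app i y = x)
    (hi : ∀ i y, c.ι.app i y = 0 → ∃ (j : Λ) (f : i ⟶ j), D.map f y = 0) : Nonempty (IsColimit c) := by
  haveI : ReflectsColimitsOfShape Λ (forget AddCommGrpCat.{v}) :=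
    reflectsColimitsOfShape_of_reflectsIsomorphisms
  refine ⟨isColimitOfReflects (forget AddCommGrpCat.{v})
    (Types.FilteredColimit.isColimitOf' _ _ (fun x => ?_) fun i a b h => ?_)⟩
  · obtain ⟨i, y, hy⟩ := hs x
    exact ⟨i, y, hy.symm⟩
  · have h' : c.ι.app i a = c.ι.app i b := h
    let a' : D.obj i := a
    let b' : D.obj i := b
    obtain ⟨j, f, hf⟩ := hi i (a' - b') ((map_sub (c.ι.app i).hom a' b').trans (sub_eq_zero.2 h'))
    replace hf := sub_eq_zero.1 ((map_sub (D.map f).hom a' b').symm.trans hf)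
    exact ⟨j, f, hf⟩

theorem preservesColimit_extFunctor {M : A} {q : ℕ} {D : Λ ⥤ A} (hs : Surj M q D) (hi : Inj M q D) :
    PreservesColimit D ((extFunctor.{v} q).obj (op M)) := by
  obtain ⟨h⟩ := nonempty_isColimit_addCommGrp
    (((extFunctor.{v} q).obj (op M)).mapCocone (colimit.cocone D)) (fun x => hs x) (fun i y hy => hi i y hy)
  exact preservesColimit_of_preserves_colimit_cocone (colimit.isColimit D) h

end Groth.Agent.ExtColim
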