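import Groth.Agent.Lib.ExtColim.Coherent
import Groth.Agent.Lib.SiteCoh.Rpush
import Groth.Agent.Lib.RDComp.Post
import Groth.Agent.Lib.ExtDerived.Natural
import Groth.Prelude.Def_CohSite

/-!
# Higher direct images and filtered colimits
-/

set_option autoImplicit false
set_option backward.isDefEq.respectTransparency false

universe u

open CategoryTheory CategoryTheory.Limits Opposite Abelian ToposFin

namespace Groth.Agent.CohColim

open Groth.Agent.SiteCoh Groth.Agent.Topos

variable {C D : Type u} [SmallCategory C] [SmallCategory D] {J : GrothendieckTopology C}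
  {K : GrothendieckTopology D} (u : D ⥤ C) [u.IsContinuous K J]

/-- Direct image with values in presheaves. -/
noncomputable abbrev pushPsh : Sheaf J AddCommGrpCat.{u} ⥤ (Dᵒᵖ ⥤ AddCommGrpCat.{u}) :=
  sheafToPresheaf J AddCommGrpCat.{u} ⋙ (Functor.whiskeringLeft Dᵒᵖ Cᵒᵖ AddCommGrpCat.{u}).obj u.op

/-- Sections over an object. -/
noncomputable def pushPshEvalIso (V : D) :
    pushPsh (J := J) u ⋙ (evaluation Dᵒᵖ AddCommGrpCat.{u}).obj (op V) ≅
      preadditiveCoyoneda.obj (op (fr J (u.obj V))) :=
  NatIso.ofComponents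
    (fun F => ((({ secEquiv (u.obj V) F with map_add' := secEquiv_add (u.obj V) } :
        (fr J (u.obj V) ⟶ F) ≃+ F.obj.obj (op (u.obj V))).symm).toAddCommGrpIso))
    (fun {F G} φ => by
      ext s
      exact (secEquiv_symm_comp (u.obj V) s φ).symm)

theorem preservesColimitsOfShape_rpush (hE : IsAlgebraic J) (hu : ∀ V : D, IsCoherent (eps J (u.obj V)))
    {Λ : Type u} [SmallCategory Λ] [IsFiltered Λ] (q : ℕ) :
    PreservesColimitsOfShape Λ (CohSite.Rpush J K u q) := by
  let L := presheafToSheaf K AddCommGrpCat.{u}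
  haveI : L.Additive := presheafToSheaf_additive
  haveI : (pushPsh (J := J) u).Additive := { }
  haveI hev : PreservesColimitsOfShape Λ ((pushPsh (J := J) u).rightDerived q) := by
    refine preservesColimitsOfShape_of_evaluation _ Λ fun V => ?_
    obtain ⟨V⟩ := V
    haveI : ((evaluation Dᵒᵖ AddCommGrpCat.{u}).obj (op V)).Additive := { }
    haveI : PreservesColimitsOfShape Λ (extFunctorObj.{u} (fr J (u.obj V)) q) := by
      haveI hM : ∀ E : Λ ⥤ Sheaf J AddCommGrpCat.{u},
          PreservesColimit E ((extFunctor.{u} q).obj (op ((frP J).obj (eps J (u.obj V)).obj))) := fun E =>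
        ExtColim.preservesColimit_extFunctor (free_surj_inj hE (hu V) q E).1 (free_surj_inj hE (hu V) q E).2
      haveI : PreservesColimitsOfShape Λ ((extFunctor.{u} q).obj (op ((frP J).obj (eps J (u.obj V)).obj))) := ⟨fun {_} => inferInstance⟩
      exact preservesColimitsOfShape_of_natIso
        (F := (extFunctor.{u} q).obj (op ((frP J).obj (eps J (u.obj V)).obj)))
        ((extFunctor.{u} q).mapIso (frSheafify (yoneda.obj (u.obj V))).op)
    exact preservesColimitsOfShape_of_natIso
      ((ExtDerived.rightDerivedCoyonedaNatIso (fr J (u.obj V)) q).symm ≪≫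
        (ExtDerived.rightDerivedMapIso q (pushPshEvalIso u V)).symm ≪≫
        RDComp.rightDerivedPostIso (pushPsh (J := J) u) ((evaluation Dᵒᵖ AddCommGrpCat.{u}).obj (op V)) q)
  let e : pushPsh (J := J) u ⋙ L ≅ CohSite.push J K u :=
    Functor.isoWhiskerLeft (CohSite.push J K u) (asIso (sheafificationAdjunction K AddCommGrpCat.{u}).counit) ≪≫
      (CohSite.push J K u).rightUnitor
  exact preservesColimitsOfShape_of_natIso
    ((RDComp.rightDerivedPostIso (pushPsh (J := J) u) L q).symm ≪≫ ExtDerived.rightDerivedMapIso q e)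

end Groth.Agent.CohColim
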